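import Groth.Agent.CplFlat.Basic
import Groth.Agent.AdicLim.Noetherian
import Mathlib.RingTheory.AdicCompletion.Algebra

/-!
# The completion with Noetherian reduction is Noetherian
-/

set_option autoImplicit false
universe u

namespace Groth.Agent.CplFlat

variable {R : Type u} [CommRing R] (I : Ideal R)

theorem isNoetherianRing_completion_of_fg (hI : I.FG) [IsNoetherianRing (R ⧸ I)] :
    IsNoetherianRing (AdicCompletion I R) := by
  haveI hc : IsAdicComplete (I.map (algebraMap R (AdicCompletion I R))) (AdicCompletion I R) :=
    isAdicComplete_map I R hI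
  haveI : IsNoetherianRing (AdicCompletion I R ⧸ I.map (algebraMap R (AdicCompletion I R))) := by
    refine isNoetherianRing_of_surjective (R ⧸ I) _
      (Ideal.quotientMap _ (algebraMap R (AdicCompletion I R)) Ideal.le_comap_map) fun x => ?_
    obtain ⟨x, rfl⟩ := Ideal.Quotient.mk_surjective x
    obtain ⟨r, hr⟩ := Submodule.Quotient.mk_surjective _ (AdicCompletion.eval I R 1 x)
    refine ⟨Ideal.Quotient.mk I r, ?_⟩
    rw [Ideal.quotientMap_mk, Ideal.Quotient.eq,
      ← pow_one (I.map (algebraMap R (AdicCompletion I R))), mem_pow_iff I hI, map_sub, sub_eq_zero, ← hr]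
    rfl
  exact Groth.Agent.AdicLim.isNoetherianRing_of_isAdicComplete (hI.map (algebraMap R (AdicCompletion I R)))

end Groth.Agent.CplFlat
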