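import Mathlib.RingTheory.Flat.EquationalCriterion
import Mathlib.RingTheory.Flat.Stability
import Mathlib.RingTheory.Filtration
import Mathlib.RingTheory.AdicCompletion.Completeness
import Mathlib.LinearAlgebra.TensorProduct.Quotient
import Mathlib.RingTheory.Noetherian.Basic
import Mathlib.LinearAlgebra.Matrix.ToLin
import Mathlib.RingTheory.IsTensorProduct

/-!
# Flatness of complete modules from flatness modulo all powers of an ideal
-/

set_option autoImplicit false
universe u v w w'

namespace Groth.Agent.CplFlat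

open TensorProduct

variable {S : Type u} [CommRing S]

theorem pi_mem_smul_top_iff (J : Ideal S) {n : Type*} [Fintype n] (f : n → S) :
    f ∈ (J • ⊤ : Submodule S (n → S)) ↔ ∀ s, f s ∈ J := by
  classical
  constructor
  · intro hf s
    refine Submodule.smul_induction_on hf (fun r hr x _ => ?_) fun x y hx hy => ?_
    · rw [Pi.smul_apply, smul_eq_mul]
      exact J.mul_mem_right _ hr
    · rw [Pi.add_apply]
      exact J.add_mem hx hy
  · intro h
    rw [pi_eq_sum_univ' f]
    exact Submodule.sum_mem _ fun s _ => Submodule.smul_mem_smul (h s) Submodule.mem_top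

/-- Linear relations in `P / Kⁿ P` come from relations in `S / Kⁿ`. -/
def LevelFlat (K : Ideal S) (P : Type v) [AddCommGroup P] [Module S P] : Prop :=
  ∀ (n l m : ℕ) (g : Fin l → Fin m → S) (w : Fin m → P),
    (∀ i, ∑ j, g i j • w j ∈ (K ^ n • ⊤ : Submodule S P)) →
    ∃ (d : ℕ) (κ : Fin d → Fin m → S) (z : Fin d → P), (∀ t i, ∑ j, g i j * κ t j ∈ K ^ n) ∧
      ∀ j, w j - ∑ t, κ t j • z t ∈ (K ^ n • ⊤ : Submodule S P)

variable {P : Type v} [AddCommGroup P] [Module S P] {K : Ideal S}

/-- Artin–Rees: exact relations up to a uniform shift. -/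
theorem LevelFlat.exists_shift [IsNoetherianRing S] (h : LevelFlat K P) {l m : ℕ} (g : Fin l → Fin m → S) :
    ∃ (c e : ℕ) (L : Fin e → Fin m → S), (∀ t i, ∑ j, g i j * L t j = 0) ∧
      ∀ (n : ℕ) (w : Fin m → P), (∀ i, ∑ j, g i j • w j ∈ (K ^ (n + c) • ⊤ : Submodule S P)) →
        ∃ z : Fin e → P, ∀ j, w j - ∑ t, L t j • z t ∈ (K ^ n • ⊤ : Submodule S P) := by
  classical
  let G : (Fin m → S) →ₗ[S] (Fin l → S) := LinearMap.pi fun i => ∑ j, g i j • LinearMap.proj j
  have hG : ∀ x i, G x i = ∑ j, g i j * x j := fun x i => by simp [G]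
  obtain ⟨c, hc⟩ := K.exists_pow_inf_eq_pow_smul (LinearMap.range G)
  obtain ⟨e, L, hL⟩ := Submodule.fg_iff_exists_fin_generating_family.1
    (IsNoetherian.noetherian (LinearMap.ker G))
  have hLker : ∀ t, G (L t) = 0 := fun t =>
    LinearMap.mem_ker.1 (hL ▸ Submodule.subset_span ⟨t, rfl⟩)
  refine ⟨c, e, L, fun t i => by rw [← hG, hLker]; rfl, fun n w hw => ?_⟩
  obtain ⟨d, κ, z, hκ, hz⟩ := h (n + c) l m g w hw
  have hdec : ∀ t, ∃ a : Fin e → S, ∀ j, κ t j - ∑ s, a s * L s j ∈ K ^ n := by
    intro t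
    have h1 : G (κ t) ∈ K ^ (n + c) • ⊤ ⊓ LinearMap.range G :=
      ⟨(pi_mem_smul_top_iff _ _).2 (fun i => by rw [hG]; exact hκ t i), ⟨_, rfl⟩⟩
    rw [hc (n + c) (Nat.le_add_left _ _), Nat.add_sub_cancel] at h1
    have h2 : G (κ t) ∈ (K ^ n • ⊤ : Submodule S (Fin m → S)).map G := by
      rw [Submodule.map_smul'', Submodule.map_top]
      exact Submodule.smul_mono le_rfl inf_le_right h1
    obtain ⟨β, hβ, hβe⟩ := h2
    have h3 : κ t - β ∈ Submodule.span S (Set.range L) := by
      rw [hL, LinearMap.mem_ker, map_sub, hβe, sub_self]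
    obtain ⟨a, ha⟩ := (Submodule.mem_span_range_iff_exists_fun S).1 h3
    refine ⟨a, fun j => ?_⟩
    have := congrFun ha j
    simp only [Finset.sum_apply, Pi.smul_apply, smul_eq_mul, Pi.sub_apply] at this
    rw [this, sub_sub_cancel]
    exact (pi_mem_smul_top_iff _ _).1 hβ j
  choose a ha using hdec
  refine ⟨fun s => ∑ t, a t s • z t, fun j => ?_⟩
  have hkey : w j - ∑ s, L s j • ∑ t, a t s • z t =
      (w j - ∑ t, κ t j • z t) + ∑ t, (κ t j - ∑ s, a t s * L s j) • z t := by
    simp only [sub_smul, Finset.sum_sub_distrib, Finset.sum_smul, Finset.smul_sum, smul_smul]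
    rw [Finset.sum_comm (f := fun t s => (a t s * L s j) • z t)]
    rw [show ∀ (f g : Fin e → Fin d → P), f = g → ∑ s, ∑ t, f s t = ∑ s, ∑ t, g s t from fun _ _ h => by rw [h]]
    · abel
    · ext s t
      rw [mul_comm]
  rw [hkey]
  exact add_mem (Submodule.smul_mono_left (Ideal.pow_le_pow_right (Nat.le_add_right n c)) (hz j))
    (Submodule.sum_mem _ fun t _ => Submodule.smul_mem_smul (ha t j) Submodule.mem_top)

/-- A complete module which is level-wise flat is flat. -/
theorem flat_of_levelFlat [IsNoetherianRing S] (h : LevelFlat K P) (hc : IsAdicComplete K P) :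
    Module.Flat S P := by
  refine Module.Flat.of_forall_isTrivialRelation fun {l f x} hfx => ?_
  obtain ⟨c₁, e, L, hL, hL'⟩ := h.exists_shift (fun (_ : Fin 1) j => f j)
  obtain ⟨c₂, e₂, L₂, hL₂, hL₂'⟩ := h.exists_shift (fun j t => L t j)
  have hy : ∀ n, ∃ y : Fin e → P, ∀ j, x j - ∑ t, L t j • y t ∈ (K ^ n • ⊤ : Submodule S P) :=
    fun n => hL' n x fun _ => by rw [hfx]; exact zero_mem _
  choose y hy using hy
  have hv : ∀ n, ∃ v : Fin e → P, (∀ j, ∑ t, L t j • v t = 0) ∧
      ∀ t, y (n + 1 + c₂) t - y (n + c₂) t - v t ∈ (K ^ n • ⊤ : Submodule S P) := by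
    intro n
    obtain ⟨z, hz⟩ := hL₂' n (fun t => y (n + 1 + c₂) t - y (n + c₂) t) fun j => by
      have h1 := hy (n + c₂) j
      have h2 : x j - ∑ t, L t j • y (n + 1 + c₂) t ∈ (K ^ (n + c₂) • ⊤ : Submodule S P) :=
        Submodule.smul_mono_left (Ideal.pow_le_pow_right (by omega)) (hy (n + 1 + c₂) j)
      convert sub_mem h1 h2 using 1
      simp only [smul_sub, Finset.sum_sub_distrib]
      abel
    refine ⟨fun t => ∑ s, L₂ s t • z s, fun j => ?_, hz⟩
    simp only [Finset.smul_sum, smul_smul]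
    rw [Finset.sum_comm, Finset.sum_eq_zero]
    intro s _
    rw [← Finset.sum_smul, hL₂ s j, zero_smul]
  choose v hv0 hv using hv
  let Y : ℕ → Fin e → P := fun n t => y (n + c₂) t - ∑ s ∈ Finset.range n, v s t
  have hYstep : ∀ n t, Y (n + 1) t - Y n t ∈ (K ^ n • ⊤ : Submodule S P) := by
    intro n t
    convert hv n t using 1
    simp only [Y, Finset.sum_range_succ]
    abel
  have hYx : ∀ n j, x j - ∑ t, L t j • Y n t ∈ (K ^ n • ⊤ : Submodule S P) := by
    intro n j
    have : ∑ t, L t j • Y n t = ∑ t, L t j • y (n + c₂) t := by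
      simp only [Y, smul_sub, Finset.sum_sub_distrib, Finset.smul_sum]
      rw [Finset.sum_comm, Finset.sum_eq_zero (fun s _ => hv0 s j), sub_zero]
    rw [this]
    exact Submodule.smul_mono_left (Ideal.pow_le_pow_right (Nat.le_add_right n c₂)) (hy (n + c₂) j)
  have hmn : ∀ {m n : ℕ}, m ≤ n → ∀ t, Y n t - Y m t ∈ (K ^ m • ⊤ : Submodule S P) := by
    intro m n hmn t
    induction hmn with
    | refl => simp
    | step h ih =>
      rename_i k
      rw [← sub_add_sub_cancel (Y (k + 1) t) (Y k t) (Y m t)]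
      exact add_mem (Submodule.smul_mono_left (Ideal.pow_le_pow_right h) (hYstep k t)) ih
  choose Z hZ using fun t => IsPrecomplete.prec hc.toIsPrecomplete (f := fun n => Y n t) fun {m n} hle => by
    rw [SModEq.sub_mem, ← Submodule.neg_mem_iff, neg_sub]
    exact hmn hle t
  refine ⟨e, fun j t => L t j, Z, fun j => ?_, fun t => hL t 0⟩
  refine sub_eq_zero.1 (IsHausdorff.haus hc.toIsHausdorff _ fun n => ?_)
  rw [SModEq.zero]
  have h1 : ∀ t, Y n t - Z t ∈ (K ^ n • ⊤ : Submodule S P) := fun t => SModEq.sub_mem.1 (hZ t n)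
  convert add_mem (hYx n j) (Submodule.sum_mem _ fun t (_ : t ∈ Finset.univ) => Submodule.smul_mem _ (L t j) (h1 t)) using 1
  simp only [smul_sub, Finset.sum_sub_distrib]
  abel

/-- Level flatness from flatness of the quotients. -/
theorem levelFlat_of_flat_quotient
    (h : ∀ n, Module.Flat (S ⧸ K ^ n) (P ⧸ (K ^ n • ⊤ : Submodule S P))) : LevelFlat K P := by
  classical
  intro n l m g w hw
  haveI := h n
  set Sb := S ⧸ K ^ n
  set Q := P ⧸ (K ^ n • ⊤ : Submodule S P)
  let π := Ideal.Quotient.mk (K ^ n)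
  have hπ : ∀ (s : S) (p : P), π s • (Submodule.Quotient.mk p : Q) = Submodule.Quotient.mk (s • p) := fun s p => rfl
  let x : (Fin m → Sb) →ₗ[Sb] Q := Fintype.linearCombination Sb fun j => (Submodule.Quotient.mk (w j) : Q)
  let f : (Fin l → Sb) →ₗ[Sb] (Fin m → Sb) := Fintype.linearCombination Sb fun i j => π (g i j)
  have hxf : x ∘ₗ f = 0 := by
    refine (Pi.basisFun Sb (Fin l)).ext fun i => ?_
    have : f (Pi.basisFun Sb (Fin l) i) = fun j => π (g i j) := by
      simp [f, Fintype.linearCombination_apply, Pi.single_apply]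
    rw [LinearMap.comp_apply, this, LinearMap.zero_apply]
    simp only [x, Fintype.linearCombination_apply, hπ]
    show ∑ j, (Submodule.Quotient.mk (g i j • w j) : Q) = 0
    exact ((map_sum (Submodule.mkQ (K ^ n • ⊤ : Submodule S P)) (fun j => g i j • w j) _).symm).trans
      ((Submodule.Quotient.mk_eq_zero _).2 (hw i))
  obtain ⟨d, a, y, hxy, haf⟩ := Module.Flat.exists_factorization_of_comp_eq_zero_of_free hxf
  choose κ hκ using fun (t : Fin d) (j : Fin m) => Ideal.Quotient.mk_surjective (a (Pi.single j 1) t)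
  choose z hz using fun t : Fin d => Submodule.Quotient.mk_surjective _ (y (Finsupp.single t 1))
  refine ⟨d, κ, z, fun t i => ?_, fun j => ?_⟩
  · rw [← Ideal.Quotient.eq_zero_iff_mem, map_sum]
    have h1 := LinearMap.congr_fun haf (Pi.single i 1)
    have h2 : f (Pi.single i 1) = ∑ j, π (g i j) • Pi.single j (1 : Sb) := by
      ext j
      simp [f, Fintype.linearCombination_apply, Pi.single_apply, Finset.sum_apply, ite_apply]
    rw [LinearMap.comp_apply, h2, map_sum, LinearMap.zero_apply] at h1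
    have h3 := DFunLike.congr_fun h1 t
    simp only [map_smul, Finsupp.finsetSum_apply, Finsupp.smul_apply, smul_eq_mul, Finsupp.coe_zero, Pi.zero_apply] at h3
    simp only [map_mul, hκ]
    exact h3
  · rw [← Submodule.Quotient.eq]
    have h1 := LinearMap.congr_fun hxy (Pi.single j 1)
    have h2 : x (Pi.single j 1) = Submodule.Quotient.mk (w j) := by
      simp [x]
    have h3 : a (Pi.single j 1) = ∑ t, π (κ t j) • Finsupp.single t (1 : Sb) := by
      ext t
      simp [π, hκ, Finsupp.finsetSum_apply, Finsupp.single_apply]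
    rw [LinearMap.comp_apply, h2, h3, map_sum] at h1
    rw [h1, ← Submodule.mkQ_apply, map_sum]
    simp only [map_smul, ← hz]
    rfl

/-- Level flatness transfers along maps which induce isomorphisms modulo all powers. -/
theorem LevelFlat.transfer {R : Type w} [CommRing R] {I : Ideal R} {M : Type w'} [AddCommGroup M]
    [Module R M] (h : LevelFlat I M) (φ : R →+* S) (q : M →+ P) (hq : ∀ r m, q (r • m) = φ r • q m)
    (hS : ∀ n s, ∃ r, s - φ r ∈ K ^ n) (hI : ∀ n r, φ r ∈ K ^ n ↔ r ∈ I ^ n)
    (hP : ∀ n p, ∃ m, p - q m ∈ (K ^ n • ⊤ : Submodule S P))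
    (hM : ∀ n m, q m ∈ (K ^ n • ⊤ : Submodule S P) ↔ m ∈ (I ^ n • ⊤ : Submodule R M)) :
    LevelFlat K P := by
  intro n l m g w hw
  choose g' hg' using fun i j => hS n (g i j)
  choose w' hw' using fun j => hP n (w j)
  have hstep : ∀ i, ∑ j, g' i j • w' j ∈ (I ^ n • ⊤ : Submodule R M) := by
    intro i
    rw [← hM, map_sum]
    simp only [hq]
    have h1 : ∑ j, φ (g' i j) • q (w' j) = ∑ j, g i j • w j -
        ∑ j, ((g i j - φ (g' i j)) • w j + φ (g' i j) • (w j - q (w' j))) := by
      rw [← Finset.sum_sub_distrib]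
      refine Finset.sum_congr rfl fun j _ => ?_
      rw [sub_smul, smul_sub]
      abel
    rw [h1]
    exact sub_mem (hw i) (Submodule.sum_mem _ fun j _ => add_mem
      (Submodule.smul_mem_smul (hg' i j) Submodule.mem_top) (Submodule.smul_mem _ _ (hw' j)))
  obtain ⟨d, κ, z, hκ, hz⟩ := h n l m g' w' hstep
  refine ⟨d, fun t j => φ (κ t j), fun t => q (z t), fun t i => ?_, fun j => ?_⟩
  · have h1 : ∑ j, g i j * φ (κ t j) = φ (∑ j, g' i j * κ t j) + ∑ j, (g i j - φ (g' i j)) * φ (κ t j) := by
      simp only [map_sum, map_mul, ← Finset.sum_add_distrib]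
      exact Finset.sum_congr rfl fun j _ => by ring
    rw [h1]
    exact add_mem ((hI n _).2 (hκ t i)) (Submodule.sum_mem _ fun j _ => Ideal.mul_mem_right _ _ (hg' i j))
  · have h1 : w j - ∑ t, φ (κ t j) • q (z t) = (w j - q (w' j)) + q (w' j - ∑ t, κ t j • z t) := by
      simp only [map_sub, map_sum, hq]
      abel
    rw [h1]
    exact add_mem (hw' j) ((hM n _).2 (hz j))

/-- Level flatness from flatness of `(S ⧸ Kⁿ) ⊗ P`. -/
theorem levelFlat_of_flat_tensor {P : Type v} [AddCommGroup P] [Module S P]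
    (h : ∀ n, Module.Flat (S ⧸ K ^ n) ((S ⧸ K ^ n) ⊗[S] P)) : LevelFlat K P := by
  refine levelFlat_of_flat_quotient fun n => ?_
  haveI := h n
  exact Module.Flat.of_linearEquiv ((LinearEquiv.extendScalarsOfSurjective
    (R := S) (S := S ⧸ K ^ n) Ideal.Quotient.mk_surjective
    (TensorProduct.quotTensorEquivQuotSMul P (K ^ n))).symm)

theorem levelFlat_of_flat [Module.Flat S P] : LevelFlat K P :=
  levelFlat_of_flat_tensor fun _ => inferInstance

section Completion

open AdicCompletion

variable {R : Type u} [CommRing R] (I : Ideal R) (M : Type u) [AddCommGroup M] [Module R M]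

theorem mem_pow_smul_iff (hI : I.FG) (n : ℕ) (x : AdicCompletion I M) :
    x ∈ ((I.map (algebraMap R (AdicCompletion I R))) ^ n • ⊤ : Submodule (AdicCompletion I R) (AdicCompletion I M)) ↔
      AdicCompletion.eval I M n x = 0 := by
  rw [← Ideal.map_pow, ← Submodule.restrictScalars_mem R, Ideal.smul_restrictScalars,
    Submodule.restrictScalars_top, AdicCompletion.pow_smul_top_eq_ker_eval hI, LinearMap.mem_ker]

theorem mem_pow_iff (hI : I.FG) (n : ℕ) (x : AdicCompletion I R) :
    x ∈ (I.map (algebraMap R (AdicCompletion I R))) ^ n ↔ AdicCompletion.eval I R n x = 0 := by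
  have h := mem_pow_smul_iff I R hI n x
  have e : ((I.map (algebraMap R (AdicCompletion I R))) ^ n • ⊤ :
      Submodule (AdicCompletion I R) (AdicCompletion I R)) = (I.map (algebraMap R (AdicCompletion I R))) ^ n := by
    rw [smul_eq_mul, Ideal.mul_top]
  exact (SetLike.ext_iff.1 e x).symm.trans h

theorem isAdicComplete_map (hI : I.FG) :
    IsAdicComplete (I.map (algebraMap R (AdicCompletion I R))) (AdicCompletion I M) := by
  have hc := AdicCompletion.isAdicComplete (M := M) hI
  have hiff : ∀ n (x : AdicCompletion I M),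
      x ∈ ((I.map (algebraMap R (AdicCompletion I R))) ^ n • ⊤ : Submodule (AdicCompletion I R) (AdicCompletion I M)) ↔
      x ∈ (I ^ n • ⊤ : Submodule R (AdicCompletion I M)) := fun n x => by
    rw [mem_pow_smul_iff I M hI, AdicCompletion.pow_smul_top_eq_ker_eval hI, LinearMap.mem_ker]
  exact
    { haus' := fun x hx => hc.haus' x fun n => by
        rw [SModEq.zero, ← hiff]; exact SModEq.zero.1 (hx n)
      prec' := fun f hf => by
        obtain ⟨L, hL⟩ := hc.prec' f fun {m n} hmn => by
          rw [SModEq.sub_mem, ← hiff]; exact SModEq.sub_mem.1 (hf hmn)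
        exact ⟨L, fun n => by rw [SModEq.sub_mem, hiff]; exact SModEq.sub_mem.1 (hL n)⟩ }

/-- The completion of a level-wise flat module is level-wise flat over the completed ring. -/
theorem levelFlat_completion (hI : I.FG) (h : LevelFlat I M) :
    LevelFlat (I.map (algebraMap R (AdicCompletion I R))) (AdicCompletion I M) := by
  refine h.transfer (algebraMap R (AdicCompletion I R)) (AdicCompletion.of I M).toAddMonoidHom
    (fun r m => ?_) (fun n s => ?_) (fun n r => ?_) (fun n p => ?_) (fun n m => ?_)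
  · show AdicCompletion.of I M (r • m) = _
    rw [map_smul, algebraMap_smul]
    rfl
  · obtain ⟨r, hr⟩ := Submodule.Quotient.mk_surjective _ (AdicCompletion.eval I R n s)
    refine ⟨r, ?_⟩
    rw [mem_pow_iff I hI, map_sub, sub_eq_zero, ← hr]
    rfl
  · rw [mem_pow_iff I hI]
    show Submodule.Quotient.mk r = 0 ↔ _
    rw [Submodule.Quotient.mk_eq_zero, smul_eq_mul, Ideal.mul_top]
  · obtain ⟨m, hm⟩ := Submodule.Quotient.mk_surjective _ (AdicCompletion.eval I M n p)
    refine ⟨m, ?_⟩
    rw [mem_pow_smul_iff I M hI, map_sub, sub_eq_zero, ← hm]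
    rfl
  · rw [mem_pow_smul_iff I M hI]
    show Submodule.Quotient.mk m = 0 ↔ _
    rw [Submodule.Quotient.mk_eq_zero]

/-- The completion of a level-wise flat module is flat over the completed ring. -/
theorem flat_completion (hI : I.FG) [IsNoetherianRing (AdicCompletion I R)] (h : LevelFlat I M) :
    Module.Flat (AdicCompletion I R) (AdicCompletion I M) :=
  flat_of_levelFlat (levelFlat_completion I M hI h) (isAdicComplete_map I M hI)

end Completion

end Groth.Agent.CplFlat
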