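import Groth.Agent.CplFlat.Noetherian
import Mathlib.RingTheory.AdicCompletion.LocalRing
import Mathlib.RingTheory.AdicCompletion.AsTensorProduct
import Mathlib.RingTheory.RingHom.Flat

/-!
# Maps between completions of local rings compatible with the given map
-/

set_option autoImplicit false
universe u

namespace Groth.Agent.CplFlat

open IsLocalRing

variable {A B : Type u} [CommRing A] [CommRing B] [IsLocalRing A] [IsLocalRing B] [IsNoetherianRing A]
  [IsNoetherianRing B] [Algebra A B] [IsLocalHom (algebraMap A B)]
  (ψ : AdicCompletion (maximalIdeal A) A →+* AdicCompletion (maximalIdeal B) B)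
  (hψ : ψ.comp (algebraMap A (AdicCompletion (maximalIdeal A) A)) =
      (algebraMap B (AdicCompletion (maximalIdeal B) B)).comp (algebraMap A B))

include hψ in
/-- `ψ` is computed levelwise. -/
theorem eval_psi (n : ℕ) (x : AdicCompletion (maximalIdeal A) A) (r : A)
    (hr : AdicCompletion.eval (maximalIdeal A) A n x = Submodule.Quotient.mk r) :
    AdicCompletion.eval (maximalIdeal B) B n (ψ x) = Submodule.Quotient.mk (algebraMap A B r) := by
  have hA := (maximalIdeal A).fg_of_isNoetherianRing
  have hB := (maximalIdeal B).fg_of_isNoetherianRing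
  have h1 : x - algebraMap A _ r ∈ (maximalIdeal A).map (algebraMap A (AdicCompletion (maximalIdeal A) A)) ^ n := by
    rw [mem_pow_iff _ hA, map_sub, sub_eq_zero, hr]
    rfl
  have h2 := Ideal.mem_map_of_mem ψ h1
  rw [Ideal.map_pow, Ideal.map_map, hψ, ← Ideal.map_map, map_sub,
    show ψ (algebraMap A _ r) = algebraMap B _ (algebraMap A B r) from RingHom.congr_fun hψ r] at h2
  have h3 : ψ x - algebraMap B _ (algebraMap A B r) ∈
      (maximalIdeal B).map (algebraMap B (AdicCompletion (maximalIdeal B) B)) ^ n :=
    Ideal.pow_right_mono (Ideal.map_mono (((local_hom_TFAE (algebraMap A B)).out 0 2).1 ‹IsLocalHom (algebraMap A B)›)) n h2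
  rw [mem_pow_iff _ hB, map_sub, sub_eq_zero] at h3
  exact h3

end Groth.Agent.CplFlat
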