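import Groth.Agent.CplFlat.Noetherian
import Mathlib.RingTheory.RingHom.Flat
import Mathlib.RingTheory.AdicCompletion.Algebra

/-!
# Flatness of the map between completions induced by a flat ring map
-/

set_option autoImplicit false
universe u

namespace Groth.Agent.CplFlat

variable {R T : Type u} [CommRing R] [IsNoetherianRing R] [CommRing T]

/-- For a flat map `g : R → T`, the map between the completion at `I` and at `I T` is flat. -/
theorem flat_completion_ringHom (g : R →+* T) (hg : g.Flat) (I : Ideal R) (K : Ideal T) (hK : I.map g = K)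
    (ψ : AdicCompletion I R →+* AdicCompletion K T)
    (hψ : ∀ r, ψ (algebraMap R (AdicCompletion I R) r) = algebraMap T (AdicCompletion K T) (g r)) :
    ψ.Flat := by
  have hI := I.fg_of_isNoetherianRing
  have hKfg : K.FG := hK ▸ hI.map g
  haveI : IsNoetherianRing (R ⧸ I) :=
    isNoetherianRing_of_surjective R (R ⧸ I) (Ideal.Quotient.mk I) Ideal.Quotient.mk_surjective
  haveI := isNoetherianRing_completion_of_fg I hI
  algebraize [g, ψ]
  have hmap : (I.map (algebraMap R (AdicCompletion I R))).map ψ = K.map (algebraMap T (AdicCompletion K T)) := by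
    subst hK
    rw [Ideal.map_map, Ideal.map_map]
    congr 1
    exact RingHom.ext hψ
  have hmem : ∀ n (x : AdicCompletion K T),
      x ∈ ((I.map (algebraMap R (AdicCompletion I R))) ^ n • ⊤ : Submodule (AdicCompletion I R) (AdicCompletion K T)) ↔
        x ∈ (K.map (algebraMap T (AdicCompletion K T))) ^ n := by
    intro n x
    rw [Ideal.smul_top_eq_map, Submodule.restrictScalars_mem, Ideal.map_pow]
    rw [show (I.map (algebraMap R (AdicCompletion I R))).map (algebraMap (AdicCompletion I R) (AdicCompletion K T)) =
      K.map (algebraMap T (AdicCompletion K T)) from hmap]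
  have hmemT : ∀ n (x : T), x ∈ (I ^ n • ⊤ : Submodule R T) ↔ x ∈ K ^ n := by
    intro n x
    rw [Ideal.smul_top_eq_map, Submodule.restrictScalars_mem, Ideal.map_pow]
    rw [show I.map (algebraMap R T) = K from hK]
  have hT : LevelFlat I T := levelFlat_of_flat
  have hlev : LevelFlat (I.map (algebraMap R (AdicCompletion I R))) (AdicCompletion K T) := by
    refine hT.transfer (algebraMap R (AdicCompletion I R)) (algebraMap T (AdicCompletion K T)).toAddMonoidHom
      (fun r m => ?_) (fun n s => ?_) (fun n r => ?_) (fun n p => ?_) (fun n m => ?_)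
    · show algebraMap T (AdicCompletion K T) (g r * m) = ψ _ * _
      rw [map_mul, hψ]
      rfl
    · obtain ⟨r, hr⟩ := Submodule.Quotient.mk_surjective _ (AdicCompletion.eval I R n s)
      refine ⟨r, ?_⟩
      rw [mem_pow_iff I hI, map_sub, sub_eq_zero, ← hr]
      rfl
    · rw [mem_pow_iff I hI]
      show Submodule.Quotient.mk r = 0 ↔ _
      rw [Submodule.Quotient.mk_eq_zero, smul_eq_mul, Ideal.mul_top]
    · obtain ⟨m, hm⟩ := Submodule.Quotient.mk_surjective _ (AdicCompletion.eval K T n p)
      refine ⟨m, ?_⟩
      rw [hmem, mem_pow_iff K hKfg, map_sub, sub_eq_zero, ← hm]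
      rfl
    · rw [hmem, mem_pow_iff K hKfg, hmemT]
      show Submodule.Quotient.mk m = 0 ↔ _
      rw [Submodule.Quotient.mk_eq_zero, smul_eq_mul, Ideal.mul_top]
  have hc : IsAdicComplete (K.map (algebraMap T (AdicCompletion K T))) (AdicCompletion K T) :=
    isAdicComplete_map K T hKfg
  have hiff : ∀ n (x : AdicCompletion K T),
      x ∈ ((K.map (algebraMap T (AdicCompletion K T))) ^ n • ⊤ : Submodule (AdicCompletion K T) (AdicCompletion K T)) ↔
      x ∈ ((I.map (algebraMap R (AdicCompletion I R))) ^ n • ⊤ : Submodule (AdicCompletion I R) (AdicCompletion K T)) :=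
    fun n x => by rw [hmem, smul_eq_mul, Ideal.mul_top]
  have hc' : IsAdicComplete (I.map (algebraMap R (AdicCompletion I R))) (AdicCompletion K T) :=
    { haus' := fun x hx => hc.haus' x fun n => by
        rw [SModEq.zero, hiff]; exact SModEq.zero.1 (hx n)
      prec' := fun f hf => by
        obtain ⟨L, hL⟩ := hc.prec' f fun {m n} hmn => by
          rw [SModEq.sub_mem, hiff]; exact SModEq.sub_mem.1 (hf hmn)
        exact ⟨L, fun n => by rw [SModEq.sub_mem, ← hiff]; exact SModEq.sub_mem.1 (hL n)⟩ }
  exact flat_of_levelFlat hlev hc'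

end Groth.Agent.CplFlat
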